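import Groth.Agent.S5422
import Groth.Agent.S7982
import Groth.Agent.AlgGrp1.AffineQuot
import Groth.Agent.AlgGrp1.AffineGrp
import Groth.Agent.Misc1.Unip.NoSubtorus
import Groth.Agent.Misc1.Unip.MultType

/-!
# Unipotent group schemes over a field
-/

set_option autoImplicit false
universe u

open CategoryTheory MonoidalCategory CartesianMonoidalCategory MonObj GrpObj AlgebraicGeometry
open Limits

noncomputable section

namespace Groth.URad

variable {k : Type u} [Field k]

/-- `E` is affine algebraic and unipotent in the fixed-vector sense. -/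
def IsUnip (E : Over (Spec (CommRingCat.of k))) [GrpObj E] : Prop :=
  ∃ (A : Type u) (_ : CommRing A) (_ : HopfAlgebra k A) (_ : Algebra.FiniteType k A)
    (e : CoactBr.sp k A ≅ E), IsMonHom e.hom ∧ HopfRep.IsUnipotent k A

theorem isMonHom_inv {X Y : Over (Spec (CommRingCat.of k))} [GrpObj X] [GrpObj Y] (e : X ≅ Y)
    [IsMonHom e.hom] : IsMonHom e.inv :=
  Groth.AlgGrp1.isMonHom_of_points _ fun T a b => by
    rw [← cancel_mono e.hom, Category.assoc, e.inv_hom_id, Category.comp_id, MonObj.mul_comp, Category.assoc,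
      Category.assoc, e.inv_hom_id, Category.comp_id, Category.comp_id]

theorem isMonHom_of_comp_mono {X Y Z : Over (Spec (CommRingCat.of k))} [GrpObj X] [GrpObj Y] [GrpObj Z]
    (w : X ⟶ Y) (i : Y ⟶ Z) [IsMonHom i] [Mono i] [IsMonHom (w ≫ i)] : IsMonHom w :=
  Groth.AlgGrp1.isMonHom_of_points _ fun T a b => by
    rw [← cancel_mono i, Category.assoc, MonObj.mul_comp a b (w ≫ i), MonObj.mul_comp (a ≫ w) (b ≫ w) i,
      Category.assoc, Category.assoc]

theorem IsUnip.isAffine {E : Over (Spec (CommRingCat.of k))} [GrpObj E] (h : IsUnip E) : IsAffine E.left := by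
  obtain ⟨A, _, _, _, e, -, -⟩ := h
  have : IsIso e.hom.left := inferInstanceAs (IsIso ((Over.forget _).map e.hom))
  have : IsAffine (CoactBr.sp k A).left := inferInstanceAs (IsAffine (Spec (CommRingCat.of A)))
  exact IsAffine.of_isIso (inv e.hom.left)

theorem IsUnip.of_iso {E E' : Over (Spec (CommRingCat.of k))} [GrpObj E] [GrpObj E'] (f : E ≅ E') [IsMonHom f.hom]
    (h : IsUnip E) : IsUnip E' := by
  obtain ⟨A, _, _, _, e, he, hA⟩ := h
  haveI := he
  exact ⟨A, inferInstance, inferInstance, inferInstance, e ≪≫ f, inferInstanceAs (IsMonHom (_ ≫ _)), hA⟩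

theorem surjective_of_isClosedImmersion {A B : Type u} [CommRing A] [Algebra k A] [CommRing B] [Algebra k B]
    (φ : A →ₐ[k] B) (h : IsClosedImmersion (CoactBr.pt φ).left) : Function.Surjective φ := by
  rw [CoactBr.pt_left] at h
  have h1 : Function.Surjective (Spec.map (CommRingCat.ofHom φ.toRingHom)).appTop :=
    (@IsClosedImmersion.isAffine_surjective_of_isAffine _ _ _ (Spec.map (CommRingCat.ofHom φ.toRingHom)) h).2
  intro c
  obtain ⟨b, hb⟩ := h1 ((Scheme.ΓSpecIso (CommRingCat.of B)).inv c)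
  refine ⟨(Scheme.ΓSpecIso (CommRingCat.of A)).hom b, ?_⟩
  have hn := congrArg (fun t => (Scheme.ΓSpecIso (CommRingCat.of B)).hom t) hb
  have hnat := congrArg (fun m => m b) (Scheme.ΓSpecIso_naturality (CommRingCat.ofHom φ.toRingHom))
  simp only [CommRingCat.comp_apply] at hnat
  simp only [Iso.inv_hom_id_apply] at hn
  exact hnat.symm.trans hn

/-- Closed subgroups of unipotent groups are unipotent. -/
theorem IsUnip.of_closedImmersion {N E : Over (Spec (CommRingCat.of k))} [GrpObj N] [GrpObj E]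
    [LocallyOfFiniteType N.hom] (i : N ⟶ E) [IsMonHom i] [IsClosedImmersion i.left] (h : IsUnip E) : IsUnip N := by
  have := h.isAffine
  have : IsAffine N.left := isAffine_of_isAffineHom i.left
  obtain ⟨A, _, _, _, e, he, hA⟩ := h
  obtain ⟨B, _, _, _, f, hf⟩ := Groth.AlgGrp1.exists_hopf_iso N
  haveI := he; haveI := hf; haveI := isMonHom_inv e
  have : IsIso f.hom.left := inferInstanceAs (IsIso ((Over.forget _).map f.hom))
  have : IsIso e.inv.left := inferInstanceAs (IsIso ((Over.forget _).map e.inv))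
  obtain ⟨φ, hφ⟩ := Groth.AlgGrp1.exists_bialgHom_of_isMonHom (f.hom ≫ i ≫ e.inv)
  have hs := surjective_of_isClosedImmersion (φ : A →ₐ[k] B) (by
    rw [hφ, Over.comp_left, Over.comp_left]; infer_instance)
  exact ⟨B, inferInstance, inferInstance, inferInstance, f, hf,
    Groth.Misc1.Unip.isUnipotent_of_surjective φ hs hA⟩

/-- Quotients of unipotent groups are unipotent. -/
theorem IsUnip.of_quotient {E Q : Over (Spec (CommRingCat.of k))} [GrpObj E] [GrpObj Q]
    [LocallyOfFiniteType E.hom] [QuasiCompact E.hom] [LocallyOfFiniteType Q.hom] [QuasiCompact Q.hom]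
    (q : E ⟶ Q) [IsMonHom q] [Flat q.left] [Surjective q.left] (h : IsUnip E) : IsUnip Q := by
  have := h.isAffine
  have : IsAffine Q.left := Groth.AlgGrp1.isAffine_of_quotient q
  obtain ⟨A, _, _, _, e, he, hA⟩ := h
  obtain ⟨C, _, _, _, g, hg⟩ := Groth.AlgGrp1.exists_hopf_iso Q
  haveI := he; haveI := hg; haveI := isMonHom_inv g
  obtain ⟨ψ, hψ⟩ := Groth.AlgGrp1.exists_bialgHom_of_isMonHom (e.hom ≫ q ≫ g.inv)
  refine ⟨C, inferInstance, inferInstance, inferInstance, g, hg,
    Groth.Agent.S5422.isUnipotent_of_injective ψ ?_ hA⟩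
  exact injective_of_flat_surjective ψ e g q hψ
where
  injective_of_flat_surjective {A C : Type u} [CommRing A] [HopfAlgebra k A] [CommRing C] [HopfAlgebra k C]
    {E Q : Over (Spec (CommRingCat.of k))} (ψ : C →ₐc[k] A) (e : CoactBr.sp k A ≅ E) (g : CoactBr.sp k C ≅ Q)
    (q : E ⟶ Q) [Flat q.left] [Surjective q.left]
    (hψ : CoactBr.pt (ψ : C →ₐ[k] A) = e.hom ≫ q ≫ g.inv) : Function.Injective ψ := by
    have : IsIso e.hom.left := inferInstanceAs (IsIso ((Over.forget _).map e.hom))
    have : IsIso g.inv.left := inferInstanceAs (IsIso ((Over.forget _).map g.inv))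
    have hfl : Flat (CoactBr.pt (ψ : C →ₐ[k] A)).left := by
      rw [hψ, Over.comp_left, Over.comp_left]; infer_instance
    have hsu : Surjective (CoactBr.pt (ψ : C →ₐ[k] A)).left := by
      rw [hψ, Over.comp_left, Over.comp_left]; infer_instance
    rw [CoactBr.pt_left] at hfl hsu
    have h1 : (ψ : C →ₐ[k] A).toRingHom.Flat := (HasRingHomProperty.Spec_iff (P := @Flat)).1 hfl
    exact (RingHom.FaithfullyFlat.iff_flat_and_comap_surjective.2 ⟨h1, hsu.surj⟩).injective

/-- Extensions of unipotent groups are unipotent. -/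
theorem IsUnip.of_extension {N E Q : Over (Spec (CommRingCat.of k))} [GrpObj N] [GrpObj E] [GrpObj Q]
    [LocallyOfFiniteType N.hom] [QuasiCompact N.hom] [LocallyOfFiniteType E.hom] [QuasiCompact E.hom]
    [LocallyOfFiniteType Q.hom] [QuasiCompact Q.hom]
    (i : N ⟶ E) (q : E ⟶ Q) [IsMonHom i] [IsMonHom q] [Flat q.left] [Surjective q.left]
    (hker : AlgGrp.IsKernel i q) (hN : IsUnip N) (hQ : IsUnip Q) : IsUnip E := by
  have := (Groth.Agent.S7982.result k N E Q i q hker).1 hN.isAffine hQ.isAffine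
  have : Mono i := Groth.AlgGrp1.IsKernel.mono hker
  have := Groth.AlgGrp1.isClosedImmersion_of_mono_hom i
  obtain ⟨B, _, _, _, f, hf, hB⟩ := hN
  obtain ⟨C, _, _, _, g, hg, hC⟩ := hQ
  obtain ⟨A, _, _, _, e, he⟩ := Groth.AlgGrp1.exists_hopf_iso E
  haveI := hf; haveI := hg; haveI := he; haveI := isMonHom_inv g; haveI := isMonHom_inv e; haveI := isMonHom_inv f
  obtain ⟨ψ, hψ⟩ := Groth.AlgGrp1.exists_bialgHom_of_isMonHom (e.hom ≫ q ≫ g.inv)
  obtain ⟨φ, hφ⟩ := Groth.AlgGrp1.exists_bialgHom_of_isMonHom (f.hom ≫ i ≫ e.inv)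
  have : IsIso e.inv.left := inferInstanceAs (IsIso ((Over.forget _).map e.inv))
  have : IsClosedImmersion (i ≫ e.inv).left := by rw [Over.comp_left]; infer_instance
  have : Mono (i ≫ e.inv) := mono_comp _ _
  obtain ⟨I, hI, hpts⟩ := Groth.AlgGrp1.exists_hopfIdeal (i ≫ e.inv)
  haveI := hI
  have hcrit : ∀ (R : Type u) [CommRing R] [Algebra k R] (x : A →ₐ[k] R),
      (∀ a ∈ I, x a = 0) ↔ x.comp (ψ : C →ₐ[k] A) = (Algebra.ofId k R).comp (Bialgebra.counitAlgHom k C) := by
    intro R _ _ x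
    have key : CoactBr.pt (x.comp (ψ : C →ₐ[k] A)) = (CoactBr.pt x ≫ e.hom ≫ q) ≫ g.inv := by
      rw [CoactBr.pt_comp, hψ, Category.assoc, Category.assoc]
    rw [hpts]
    constructor
    · rintro ⟨y, hy⟩
      refine CoactBr.pt_injective ?_
      simp only [key, ← hy, Category.assoc, e.inv_hom_id_assoc]
      rw [← Category.assoc i q g.inv, Groth.AlgGrp1.IsKernel.comp_eq_one hker, MonObj.one_comp, MonObj.comp_one,
        CoactBr.one_eq_pt]
    · intro h
      obtain ⟨n, hn⟩ := Groth.AlgGrp1.IsKernel.exists_lift hker (CoactBr.pt x ≫ e.hom) (by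
        rw [← cancel_mono g.inv, Category.assoc (CoactBr.pt x) e.hom, ← key, h, ← CoactBr.one_eq_pt,
          MonObj.one_comp])
      exact ⟨n, by rw [← Category.assoc, hn, Category.assoc, e.hom_inv_id, Category.comp_id]⟩
  have hJ : I = Ideal.map (ψ : C →+* A) (RingHom.ker (Bialgebra.counitAlgHom k C)) := by
    apply le_antisymm
    · intro a ha
      refine Ideal.Quotient.eq_zero_iff_mem.1 ((hcrit _ (Ideal.Quotient.mkₐ k _)).2 ?_ a ha)
      refine AlgHom.ext fun c => ?_
      change Ideal.Quotient.mk _ (ψ c) = Ideal.Quotient.mk _ (algebraMap k A (Coalgebra.counit (R := k) c))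
      rw [Ideal.Quotient.eq]
      refine (show ψ c - algebraMap k A (Coalgebra.counit (R := k) c) = (ψ : C →+* A)
        (c - algebraMap k C (Coalgebra.counit (R := k) c)) by
          rw [map_sub]; exact congrArg (ψ c - ·) ((ψ : C →ₐ[k] A).commutes _).symm) ▸ Ideal.mem_map_of_mem _ ?_
      rw [RingHom.mem_ker, map_sub, AlgHom.commutes]
      simp
    · rw [Ideal.map_le_iff_le_comap]
      intro c hc
      rw [RingHom.mem_ker, Bialgebra.counitAlgHom_apply] at hc
      have := DFunLike.congr_fun ((hcrit _ (Ideal.Quotient.mkₐ k I)).1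
        fun a ha => Ideal.Quotient.eq_zero_iff_mem.2 ha) c
      refine Ideal.mem_comap.2 (Ideal.Quotient.eq_zero_iff_mem.1 (this.trans ?_))
      simp [hc]
  obtain ⟨w, hw⟩ := (hpts (A ⧸ I) (Ideal.Quotient.mkₐ k I)).1 fun a ha => Ideal.Quotient.eq_zero_iff_mem.2 ha
  haveI : IsMonHom (w ≫ i ≫ e.inv) := by
    rw [hw]
    exact Groth.AlgGrp1.isMonHom_pt_bialg (Bialgebra.Quotient.mkBialgHom (R := k) I)
  haveI := isMonHom_of_comp_mono w (i ≫ e.inv)
  obtain ⟨φ', hφ'⟩ := Groth.AlgGrp1.exists_bialgHom_of_isMonHom (w ≫ f.inv)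
  have hs : Function.Surjective φ' := fun r => by
    obtain ⟨a, rfl⟩ := Ideal.Quotient.mk_surjective r
    have h : CoactBr.pt ((φ' : B →ₐ[k] A ⧸ I).comp (φ : A →ₐ[k] B)) = CoactBr.pt (Ideal.Quotient.mkₐ k I) := by
      rw [CoactBr.pt_comp, hφ', hφ, Category.assoc, f.inv_hom_id_assoc]
      exact hw
    exact ⟨φ a, DFunLike.congr_fun (CoactBr.pt_injective h) a⟩
  exact ⟨A, inferInstance, inferInstance, inferInstance, e, he,
    Groth.Agent.S5422.isUnipotent_extension ψ hJ hC (Groth.Misc1.Unip.isUnipotent_of_surjective φ' hs hB)⟩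

/-- The trivial group is unipotent. -/
theorem isUnip_sp_self : IsUnip (CoactBr.sp k k) := by
  refine ⟨k, inferInstance, inferInstance, inferInstance, Iso.refl _, inferInstanceAs (IsMonHom (𝟙 _)), ?_⟩
  intro V _ _ _ _ hnt
  obtain ⟨v, hv⟩ := exists_ne (0 : V)
  refine fun hbot => hv ((Submodule.mem_bot k).1 (hbot ▸ ?_))
  show HopfRep.Comod.coact (k := k) (A := k) v = v ⊗ₜ[k] (1 : k)
  have h := LinearMap.congr_fun (HopfRep.Comod.counit_comp (k := k) (A := k) (V := V)) v
  have e : (CoalgebraStruct.counit (R := k) (A := k)) = LinearMap.id := LinearMap.ext fun r => by simp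
  rw [LinearMap.comp_apply, e, LinearMap.lTensor_id] at h
  exact h

/-- Unipotent groups contain no subtori. -/
theorem IsUnip.hasNoSubtorus [IsAlgClosed k] {E : Over (Spec (CommRingCat.of k))} [GrpObj E]
    [LocallyOfFiniteType E.hom] (h : IsUnip E) : Red.HasNoSubtorus k E := by
  intro T _ j _ _ hT
  obtain ⟨r, e, he⟩ := Groth.AlgGrp1.exists_diag_iso_of_isTorus hT
  haveI := he
  let N := MonoidAlgebra k (Multiplicative (Fin r → ℤ))
  have : LocallyOfFiniteType (CoactBr.sp k N).hom :=
    (HasRingHomProperty.Spec_iff (P := @LocallyOfFiniteType)).2 (RingHom.finiteType_algebraMap.2 inferInstance)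
  have : QuasiCompact (CoactBr.sp k N).hom := inferInstanceAs (QuasiCompact (Spec.map _))
  have := h.isAffine
  have : LocallyOfFiniteType T.hom := by
    have : IsIso e.inv.left := inferInstanceAs (IsIso ((Over.forget _).map e.inv))
    rw [← Over.w e.inv]
    infer_instance
  have : Mono (e.hom ≫ j) := mono_comp _ _
  have := Groth.AlgGrp1.isClosedImmersion_of_mono_hom (e.hom ≫ j)
  obtain ⟨B, _, _, _, f, hf, hB⟩ := IsUnip.of_closedImmersion (e.hom ≫ j) h
  haveI := hf
  obtain ⟨χ, hχ⟩ := Groth.AlgGrp1.exists_bialgHom_of_isMonHom f.hom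
  have : IsIso f.hom.left := inferInstanceAs (IsIso ((Over.forget _).map f.hom))
  haveI := isMonHom_inv f
  obtain ⟨χ', hχ'⟩ := Groth.AlgGrp1.exists_bialgHom_of_isMonHom f.inv
  have hex := fun a : B => Groth.ComodLib.exists_mem_fixSeries hB a
  have hone : ∀ m : Multiplicative (Fin r → ℤ), MonoidAlgebra.single m (1 : k) = 1 := fun m => by
    have hg : IsGroupLikeElem k (MonoidAlgebra.single m (1 : k)) := by
      refine ⟨?_, ?_⟩ <;> simp
    have h1 : χ (MonoidAlgebra.single m 1) = 1 := Groth.Misc1.Unip.groupLike_eq_one hex (hg.map χ)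
    have h2 : ∀ x, χ' (χ x) = x := fun x => by
      refine DFunLike.congr_fun (CoactBr.pt_injective (?_ : CoactBr.pt ((χ' : B →ₐ[k] N).comp (χ : N →ₐ[k] B)) =
        CoactBr.pt (AlgHom.id k N))) x
      rw [CoactBr.pt_comp, hχ, hχ', f.inv_hom_id]
      exact CoactBr.pt_id.symm
    rw [← h2 (MonoidAlgebra.single m 1), h1, map_one]
  have hsub : Subsingleton (Multiplicative (Fin r → ℤ)) := ⟨fun a b => by
    have := (hone a).trans (hone b).symm
    exact (MonoidAlgebra.single_left_inj one_ne_zero).1 this⟩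
  obtain rfl : r = 0 := by
    by_contra hr
    have := congrFun (congrArg Multiplicative.toAdd
      (hsub.elim (Multiplicative.ofAdd fun _ => (1 : ℤ)) (Multiplicative.ofAdd 0))) ⟨0, Nat.pos_of_ne_zero hr⟩
    simp at this
  have hb : Function.Bijective (algebraMap k N) := ⟨(algebraMap k N).injective, fun x => ⟨x.coeff 1,
    MonoidAlgebra.coeff_injective (Finsupp.ext fun m => by
      rw [Subsingleton.elim m 1, MonoidAlgebra.coe_algebraMap]; simp)⟩⟩
  have : IsIso (CoactBr.sp k N).hom := by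
    have : IsIso (CommRingCat.ofHom (algebraMap k N)) := (ConcreteCategory.isIso_iff_bijective _).2 hb
    exact inferInstanceAs (IsIso (Spec.map (CommRingCat.ofHom (algebraMap k N))))
  show IsIso T.hom
  have : IsIso e.inv.left := inferInstanceAs (IsIso ((Over.forget _).map e.inv))
  rw [← Over.w e.inv]
  infer_instance

/-- Over an algebraically closed field smooth connected affine groups without subtori are unipotent. -/
theorem isUnip_of_hasNoSubtorus [IsAlgClosed k] (H : Over (Spec (CommRingCat.of k))) [GrpObj H] [IsAffine H.left]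
    [Smooth H.hom] [ConnectedSpace H.left] (hH : Red.HasNoSubtorus k H) : IsUnip H := by
  obtain ⟨A, _, _, _, _, e, he, hA⟩ := Groth.Misc1.Unip.exists_unipotent_hopf H hH
  exact ⟨A, inferInstance, inferInstance, inferInstance, e, he, hA⟩

end Groth.URad

end
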