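import Groth.Agent.URad.Radical
import Groth.Agent.S7986
import Groth.Agent.AlgGrp1.BorelConj
import Groth.Agent.AlgGrp1.ImageHom

/-!
# Consequences for radicals
-/

set_option autoImplicit false
universe u

open CategoryTheory MonoidalCategory CartesianMonoidalCategory MonObj GrpObj AlgebraicGeometry
open Limits

noncomputable section

namespace Groth.URad

variable {k : Type u} [Field k] [IsAlgClosed k]

local notation "pt" => 𝟙_ (Over (Spec (CommRingCat.of k)))

omit [IsAlgClosed k] in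
/-- Rational points of a unipotent group. -/
theorem IsUnip.exists_pointEquiv {E : Over (Spec (CommRingCat.of k))} [GrpObj E] (h : IsUnip E) :
    ∃ (A : Type u) (_ : CommRing A) (_ : HopfAlgebra k A) (_ : Algebra.FiniteType k A),
      HopfRep.IsUnipotent k A ∧ Nonempty (WithConv (A →ₐ[k] k) ≃* (pt ⟶ E)) := by
  obtain ⟨A, _, _, _, e, he, hA⟩ := h
  haveI := he
  have hid : Spec.map (CommRingCat.ofHom (algebraMap k k)) = 𝟙 (Spec (CommRingCat.of k)) := Spec.map_id _
  let ιso : pt ≅ CoactBr.sp k k :=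
    Over.isoMk (Iso.refl _) (by
      show 𝟙 _ ≫ Spec.map (CommRingCat.ofHom (algebraMap k k)) = 𝟙 _
      rw [hid, Category.id_comp])
  exact ⟨A, inferInstance, inferInstance, inferInstance, hA, ⟨(Spec.mapMulEquiv (R := k) (S := A) (T := k)).trans
      { toFun := fun x => ιso.hom ≫ x ≫ e.hom
        invFun := fun y => ιso.inv ≫ y ≫ e.inv
        left_inv := fun x => by simp
        right_inv := fun y => by simp
        map_mul' := fun a b => by rw [MonObj.mul_comp, MonObj.comp_mul] }⟩⟩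

/-- Smooth connected unipotent groups are solvable. -/
theorem IsUnip.isSolvableGrp {E : Over (Spec (CommRingCat.of k))} [GrpObj E] [Smooth E.hom] [ConnectedSpace E.left]
    (h : IsUnip E) : Red.IsSolvableGrp E := by
  have := h.isAffine
  obtain ⟨A, _, _, _, hA, ⟨M⟩⟩ := h.exists_pointEquiv
  have := Groth.Agent.S7986.result k A hA
  have : Group.IsSolvable (pt ⟶ E) :=
    Group.isSolvable_of_isSolvable_injective (f := M.symm.toMonoidHom) M.symm.injective
  obtain ⟨n, hn⟩ := this.solvable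
  exact Groth.AlgGrp1.isSolvableGrp_of_derivedSeries n E hn

variable {G : Over (Spec (CommRingCat.of k))} [GrpObj G]

omit [IsAlgClosed k] in
/-- A normal subgroup as a subgroup of an intermediate subgroup is normal. -/
theorem isNormalHom_of_le {U H : Over (Spec (CommRingCat.of k))} [GrpObj U] [GrpObj H] (f : U ⟶ H) (i : H ⟶ G)
    [IsMonHom i] [Mono i] (h : AlgGrp.IsNormalHom (f ≫ i)) : AlgGrp.IsNormalHom f := by
  intro T g n
  obtain ⟨n', hn'⟩ := h T (g ≫ i) n
  refine ⟨n', (cancel_mono i).1 ?_⟩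
  rw [MonObj.mul_comp, MonObj.mul_comp, GrpObj.inv_comp, Category.assoc, hn', Category.assoc]

/-- The unipotent radical lies in every Borel subgroup. -/
theorem exists_le_borel [IsAffine G.left] [Smooth G.hom] [ConnectedSpace G.left]
    {U : Over (Spec (CommRingCat.of k))} [GrpObj U] (u : U ⟶ G) [IsMonHom u] [IsClosedImmersion u.left]
    [Smooth U.hom] [ConnectedSpace U.left] (hn : AlgGrp.IsNormalHom u) (hU : IsUnip U)
    {B : Over (Spec (CommRingCat.of k))} [GrpObj B] {iB : B ⟶ G} (hB : Red.IsBorelOver k iB) :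
    ∃ f : U ⟶ B, f ≫ iB = u := by
  obtain ⟨B₀, _, i₀, _, X, a, o, hB₀, hX, hXp⟩ := Groth.AlgGrp1.exists_borel_proper (G := G)
  obtain ⟨x, f, hf⟩ := Groth.AlgGrp1.exists_conj_le hX u hU.isSolvableGrp
  obtain ⟨g, e, he⟩ := Groth.AlgGrp1.borel_conj hB₀ hB
  obtain ⟨n', hn'⟩ := hn U (toUnit U ≫ (x⁻¹ * g⁻¹)) (𝟙 U)
  refine ⟨n' ≫ f ≫ e.hom, ?_⟩
  have h1 : f ≫ e.hom ≫ iB = f ≫ AGF.conjBy g i₀ := by rw [he]
  have h2 : n' ≫ f ≫ i₀ = n' ≫ AGF.conjBy x u := by rw [hf]
  simp only [AGF.conjBy, MonObj.comp_mul, GrpObj.comp_inv, comp_toUnit_assoc] at h1 h2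
  rw [Category.assoc, Category.assoc, h1]
  simp only [MonObj.comp_mul, GrpObj.comp_inv, comp_toUnit_assoc, Category.assoc]
  rw [h2, ← hn', Category.id_comp, MonObj.comp_mul, GrpObj.comp_inv, GrpObj.comp_inv]
  group

/-- The image of a unipotent radical under a surjection lies in the radical. -/
theorem exists_map_radical [LocallyOfFiniteType G.hom] [QuasiCompact G.hom] [IsAffine G.left]
    {G' : Over (Spec (CommRingCat.of k))} [GrpObj G'] [IsAffine G'.left] [Smooth G'.hom]
    (π : G ⟶ G') [IsMonHom π] [Surjective π.left]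
    {U : Over (Spec (CommRingCat.of k))} [GrpObj U] (u : U ⟶ G) (hU : Par.IsUnipotentRadical u)
    {U' : Over (Spec (CommRingCat.of k))} [GrpObj U'] (u' : U' ⟶ G') (hU' : Par.IsUnipotentRadical u') :
    ∃ f : U ⟶ U', f ≫ u' = u ≫ π := by
  obtain ⟨_, _, hn, _, hc, hu, -⟩ := (isUnipotentRadical_iff u).1 hU
  obtain ⟨_, _, -, _, -, -, hmax'⟩ := (isUnipotentRadical_iff u').1 hU'
  have : LocallyOfFiniteType G'.hom := inferInstance
  have : QuasiCompact U.hom := by rw [← Over.w u]; infer_instance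
  obtain ⟨K, _, c, q, _, hcK, _, _, _, _, _, hqc⟩ := Groth.AlgGrp1.exists_image_hom (u ≫ π)
  have : Smooth K.hom := Groth.AlgGrp1.smooth_of_flat_surjective_hom q
  have : ConnectedSpace K.left := q.left.surjective.connectedSpace q.left.continuous
  have hK : IsUnip K := IsUnip.of_quotient q hu
  have hnK : AlgGrp.IsNormalHom c := isNormalHom_of_points c fun g x => by
    obtain ⟨g₀, rfl⟩ := Groth.AlgGrp1.exists_rpt_lift π g (π.left.surjective _)
    obtain ⟨x₀, rfl⟩ := Groth.AlgGrp1.exists_rpt_lift q x (q.left.surjective _)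
    obtain ⟨y, hy⟩ := hn _ g₀ x₀
    refine ⟨y ≫ q, ?_⟩
    rw [Category.assoc, Category.assoc, hqc, ← Category.assoc x₀, ← Category.assoc y, ← hy, MonObj.mul_comp,
      MonObj.mul_comp, GrpObj.inv_comp]
  obtain ⟨f, hf⟩ := hmax' K c hcK inferInstance inferInstance hnK hK
  exact ⟨q ≫ f, by rw [Category.assoc, hf, hqc]⟩

/-- A reductive group has reductive smooth normal subgroups. -/
theorem radical_trivial_of_normal [IsAffine G.left]
    {N : Over (Spec (CommRingCat.of k))} [GrpObj N] (j : N ⟶ G) [IsMonHom j] [IsClosedImmersion j.left]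
    [Smooth G.hom] [Smooth N.hom] (hN : AlgGrp.IsNormalHom j)
    (hG : ∀ (U : Over (Spec (CommRingCat.of k))) [GrpObj U] (i : U ⟶ G) [IsMonHom i], IsClosedImmersion i.left →
      Smooth U.hom → ConnectedSpace ↥U.left → AlgGrp.IsNormalHom i → Red.HasNoSubtorus k U → Red.IsTrivialGrp U)
    {U : Over (Spec (CommRingCat.of k))} [GrpObj U] (i : U ⟶ N) [IsMonHom i] [IsClosedImmersion i.left]
    [Smooth U.hom] [ConnectedSpace ↥U.left] (hn : AlgGrp.IsNormalHom i) (hU : Red.HasNoSubtorus k U) :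
    Red.IsTrivialGrp U := by
  have : IsAffine N.left := isAffine_of_isAffineHom j.left
  have : IsAffine U.left := isAffine_of_isAffineHom i.left
  have : Mono j := Over.mono_of_mono_left j
  have : Mono i := Over.mono_of_mono_left i
  have : QuasiCompact N.hom := inferInstance
  obtain ⟨R, _, r, _, _, _, hRc, hRn, hRu, hmax⟩ := exists_largest N
  obtain ⟨f, hf⟩ := hmax U i inferInstance inferInstance inferInstance hn (isUnip_of_hasNoSubtorus U hU)
  have : Mono f := ⟨fun a b h => (cancel_mono i).1 (by rw [← hf, ← Category.assoc, h, Category.assoc])⟩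
  refine isTrivialGrp_of_mono f (hG R (r ≫ j) (by rw [Over.comp_left]; infer_instance) inferInstance hRc ?_
    hRu.hasNoSubtorus)
  have : IsClosedImmersion (r ≫ j).left := by rw [Over.comp_left]; infer_instance
  refine isNormalHom_of_points _ fun g x => ?_
  -- conjugation by a rational point is an automorphism of `N`
  obtain ⟨c, hc⟩ := hN N (toUnit N ≫ g) (𝟙 N)
  obtain ⟨c', hc'⟩ := hN N (toUnit N ≫ g⁻¹) (𝟙 N)
  rw [Category.id_comp] at hc hc'
  have hcT : ∀ {T : Over (Spec (CommRingCat.of k))} (t : T ⟶ N),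
      (t ≫ c) ≫ j = (toUnit T ≫ g) * (t ≫ j) * (toUnit T ≫ g)⁻¹ := fun t => by
    rw [Category.assoc, ← hc, MonObj.comp_mul, MonObj.comp_mul, GrpObj.comp_inv, comp_toUnit_assoc]
  have hcT' : ∀ {T : Over (Spec (CommRingCat.of k))} (t : T ⟶ N),
      (t ≫ c') ≫ j = (toUnit T ≫ g⁻¹) * (t ≫ j) * (toUnit T ≫ g⁻¹)⁻¹ := fun t => by
    rw [Category.assoc, ← hc']
    simp [MonObj.comp_mul, GrpObj.comp_inv]
  let e : N ≅ N := ⟨c, c', (cancel_mono j).1 (by rw [hcT', ← hc, GrpObj.comp_inv, Category.id_comp]; group),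
    (cancel_mono j).1 (by rw [hcT, ← hc', GrpObj.comp_inv, Category.id_comp]; group)⟩
  have : IsMonHom c := Groth.AlgGrp1.isMonHom_of_points _ fun T a b => (cancel_mono j).1 (by
    rw [MonObj.mul_comp (a ≫ c) (b ≫ c) j, hcT, hcT, hcT, MonObj.mul_comp]
    group)
  have : IsIso c := ⟨c', e.hom_inv_id, e.inv_hom_id⟩
  have : IsIso c.left := inferInstanceAs (IsIso ((Over.forget _).map c))
  obtain ⟨φ, hφ⟩ := hmax R (r ≫ c) (by rw [Over.comp_left]; infer_instance) inferInstance hRc (fun T t n => by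
      obtain ⟨n', hn'⟩ := hRn T (t ≫ c') n
      refine ⟨n', ?_⟩
      have h := congrArg (· ≫ c) hn'
      simp only [MonObj.mul_comp, GrpObj.inv_comp, Category.assoc, show c' ≫ c = 𝟙 N from e.inv_hom_id,
        Category.comp_id] at h
      exact h) hRu
  refine ⟨x ≫ φ, ?_⟩
  rw [Category.assoc, ← Category.assoc φ, hφ]
  have h := hcT (x ≫ r)
  simp only [Category.assoc] at h ⊢
  rw [h, toUnit_unique (toUnit _) (𝟙 _), Category.id_comp]

end Groth.URad

end
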