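import Groth.Agent.URad.Radical
import Groth.Agent.AlgGrp1.BorelField
import Groth.Agent.Reductive.MTCrit.Spec
import Groth.Agent.Sga3.UnipotentByMultDescent
import Groth.Agent.Sga3.CommSpread.Adj
import Groth.Agent.Misc1.Unip.MuCrit

/-!
# Unipotence of a group scheme under extension of the base field
-/

set_option autoImplicit false
universe u

open CategoryTheory MonoidalCategory CartesianMonoidalCategory MonObj GrpObj AlgebraicGeometry
open Limits
open scoped TensorProduct

noncomputable section

namespace Groth.URad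

variable {k K : Type u} [Field k] [Field K]

theorem isUnip_bc_str [Algebra k K] {E : Over (Spec (CommRingCat.of k))} [GrpObj E] (h : IsUnip E) :
    IsUnip (Red.bc (Groth.AlgGrp2.str k K) E) := by
  obtain ⟨A, _, _, _, e, he, hA⟩ := h
  haveI := he
  haveI := Groth.Abvar.isMonHom_map (f := Groth.AlgGrp2.str k K) e.hom
  refine ⟨K ⊗[k] A, inferInstance, inferInstance, inferInstance,
    asIso (Groth.Reductive.MTCrit.bcMap (k := k) A K) ≪≫ (Over.pullback (Groth.AlgGrp2.str k K)).mapIso e, ?_,
    Groth.Sga3.GaloisRetraction.isUnipotent_baseChange K hA⟩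
  simp only [Iso.trans_hom, asIso_hom, Functor.mapIso_hom]
  infer_instance

theorem isUnip_of_bc_str [Algebra k K] {E : Over (Spec (CommRingCat.of k))} [GrpObj E] [IsAffine E.left]
    [LocallyOfFiniteType E.hom] (h : IsUnip (Red.bc (Groth.AlgGrp2.str k K) E)) : IsUnip E := by
  obtain ⟨A, _, _, _, e, he⟩ := Groth.AlgGrp1.exists_hopf_iso E
  obtain ⟨A', _, _, _, e', he', hA'⟩ := h
  haveI := he; haveI := he'
  haveI := Groth.Abvar.isMonHom_map (f := Groth.AlgGrp2.str k K) e.hom
  let j : CoactBr.sp K (K ⊗[k] A) ≅ Red.bc (Groth.AlgGrp2.str k K) E :=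
    asIso (Groth.Reductive.MTCrit.bcMap (k := k) A K) ≪≫ (Over.pullback (Groth.AlgGrp2.str k K)).mapIso e
  haveI : IsMonHom j.hom := by
    simp only [j, Iso.trans_hom, asIso_hom, Functor.mapIso_hom]
    infer_instance
  haveI := isMonHom_inv e'
  obtain ⟨φ, hφ⟩ := Groth.AlgGrp1.exists_bialgHom_of_isMonHom (j.hom ≫ e'.inv)
  have hs : Function.Surjective φ := surjective_of_isClosedImmersion (φ : A' →ₐ[K] K ⊗[k] A) (by
    have : IsIso j.hom.left := inferInstanceAs (IsIso ((Over.forget _).map j.hom))
    have : IsIso e'.inv.left := inferInstanceAs (IsIso ((Over.forget _).map e'.inv))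
    rw [hφ, Over.comp_left]; infer_instance)
  exact ⟨A, inferInstance, inferInstance, inferInstance, e, he,
    Groth.Misc1.Unip.isUnipotent_descent K (Groth.Misc1.Unip.isUnipotent_of_surjective φ hs hA')⟩

theorem isUnip_bc (φ : Spec (CommRingCat.of K) ⟶ Spec (CommRingCat.of k))
    {E : Over (Spec (CommRingCat.of k))} [GrpObj E] (h : IsUnip E) : IsUnip (Red.bc φ E) := by
  obtain ⟨f, rfl⟩ := Spec.map_surjective φ
  letI := f.hom.toAlgebra
  exact isUnip_bc_str h

theorem isUnip_of_bc (φ : Spec (CommRingCat.of K) ⟶ Spec (CommRingCat.of k))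
    {E : Over (Spec (CommRingCat.of k))} [GrpObj E] [IsAffine E.left] [LocallyOfFiniteType E.hom]
    (h : IsUnip (Red.bc φ E)) : IsUnip E := by
  obtain ⟨f, rfl⟩ := Spec.map_surjective φ
  letI := f.hom.toAlgebra
  exact isUnip_of_bc_str h

/-- A smooth connected affine group over any field whose geometric fibre has no subtorus is unipotent. -/
theorem isUnip_of_geomFibre (E : Over (Spec (CommRingCat.of k))) [GrpObj E] [IsAffine E.left] [Smooth E.hom]
    [ConnectedSpace E.left] (s : (Spec (CommRingCat.of k) : Scheme.{u}))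
    (h : Red.HasNoSubtorus (AlgebraicClosure ((Spec (CommRingCat.of k)).residueField s)) (Red.geomFibre s E)) :
    IsUnip E := by
  have : IsAffine (Red.geomFibre s E).left :=
    Groth.AlgGrp1.isAffine_bc (K := AlgebraicClosure ((Spec (CommRingCat.of k)).residueField s)) _ E
  have : Smooth (Red.geomFibre s E).hom :=
    Groth.AlgGrp1.smooth_bc (K := AlgebraicClosure ((Spec (CommRingCat.of k)).residueField s)) _ E
  have : ConnectedSpace (Red.geomFibre s E).left :=
    Groth.AlgGrp1.connectedSpace_bc (K := AlgebraicClosure ((Spec (CommRingCat.of k)).residueField s)) _ E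
  exact isUnip_of_bc (K := AlgebraicClosure ((Spec (CommRingCat.of k)).residueField s)) (Red.geomPt s)
    (isUnip_of_hasNoSubtorus (Red.geomFibre s E) h)

theorem hasNoSubtorus_geomFibre {E : Over (Spec (CommRingCat.of k))} [GrpObj E] [LocallyOfFiniteType E.hom]
    (h : IsUnip E) (s : (Spec (CommRingCat.of k) : Scheme.{u})) :
    Red.HasNoSubtorus (AlgebraicClosure ((Spec (CommRingCat.of k)).residueField s)) (Red.geomFibre s E) := by
  have : LocallyOfFiniteType (Red.geomFibre s E).hom :=
    inferInstanceAs (LocallyOfFiniteType (pullback.snd E.hom (Red.geomPt s)))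
  exact (isUnip_bc (K := AlgebraicClosure ((Spec (CommRingCat.of k)).residueField s)) (Red.geomPt s) h).hasNoSubtorus

/-- Pseudo-reductivity descends along any extension of fields. -/
theorem trivial_of_bc_pseudoReductive (φ : Spec (CommRingCat.of K) ⟶ Spec (CommRingCat.of k))
    (G : Over (Spec (CommRingCat.of k))) [GrpObj G] [IsAffine G.left]
    (hpr : ∀ (U : Over (Spec (CommRingCat.of K))) [GrpObj U] (i : U ⟶ Red.bc φ G) [IsMonHom i],
      IsClosedImmersion i.left → Smooth U.hom → ConnectedSpace ↥U.left → AlgGrp.IsNormalHom i →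
      (∀ s : ↥(Spec (CommRingCat.of K)),
        Red.HasNoSubtorus (AlgebraicClosure ((Spec (CommRingCat.of K)).residueField s)) (Red.geomFibre s U)) →
      Red.IsTrivialGrp U)
    (U : Over (Spec (CommRingCat.of k))) [GrpObj U] (i : U ⟶ G) [IsMonHom i] [IsClosedImmersion i.left]
    [Smooth U.hom] [ConnectedSpace ↥U.left] (hn : AlgGrp.IsNormalHom i)
    (hgeo : ∀ s : ↥(Spec (CommRingCat.of k)),
      Red.HasNoSubtorus (AlgebraicClosure ((Spec (CommRingCat.of k)).residueField s)) (Red.geomFibre s U)) :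
    Red.IsTrivialGrp U := by
  have : IsAffine U.left := isAffine_of_isAffineHom i.left
  have hU : IsUnip U := isUnip_of_geomFibre U (IsLocalRing.closedPoint k) (hgeo _)
  have hUK := isUnip_bc φ hU
  have := Groth.Abvar.isMonHom_map (f := φ) i
  have : Smooth (Red.bc φ U).hom := Groth.AlgGrp1.smooth_bc φ U
  have ht := hpr (Red.bc φ U) ((Over.pullback φ).map i) (Groth.AlgGrp1.isClosedImmersion_bc φ i) inferInstance
    (Groth.AlgGrp1.connectedSpace_bc φ U) (Groth.Sga3.CommSpread.isNormalHom_bc φ i hn)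
    (fun s => hasNoSubtorus_geomFibre hUK s)
  obtain ⟨f, rfl⟩ := Spec.map_surjective φ
  letI := f.hom.toAlgebra
  have hfl : Flat (Spec.map f) :=
    Flat.SpecMap_iff.mpr (RingHom.flat_algebraMap_iff.mpr (inferInstanceAs (Module.Flat k K)))
  have hsu : Surjective (Spec.map f) := ⟨fun x => ⟨IsLocalRing.closedPoint K, Subsingleton.elim _ _⟩⟩
  have h' : (MorphismProperty.isomorphisms Scheme.{u}) (pullback.snd U.hom (Spec.map f)) := ht
  exact MorphismProperty.of_pullback_snd_of_descendsAlong
    (P := MorphismProperty.isomorphisms Scheme.{u}) (Q := @Surjective ⊓ @Flat ⊓ @QuasiCompact)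
    ⟨⟨hsu, hfl⟩, inferInstance⟩ h'

end Groth.URad

end
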