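import Groth.Agent.URad.Unip
import Groth.Prelude.Def_Par
import Groth.Agent.S8004
import Groth.Agent.Reductive2.MaxTorusAlgClosed
import Groth.Agent.AlgGrp1.Points
import Groth.Agent.AlgGrp1.GenSubgroup

/-!
# The unipotent radical over an algebraically closed field
-/

set_option autoImplicit false
universe u

open CategoryTheory MonoidalCategory CartesianMonoidalCategory MonObj GrpObj AlgebraicGeometry
open Limits

noncomputable section

namespace Groth.URad

variable {k : Type u} [Field k]

section BaseIso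

variable {K : Type u} [Field K] (ψ : Spec (CommRingCat.of K) ⟶ Spec (CommRingCat.of k)) [IsIso ψ]

theorem isTrivialGrp_of_bc (T : Over (Spec (CommRingCat.of k))) (h : Red.IsTrivialGrp (Red.bc ψ T)) :
    Red.IsTrivialGrp T := by
  have h' : IsIso (pullback.snd T.hom ψ) := h
  have : IsIso (pullback.fst T.hom ψ ≫ T.hom) := by rw [pullback.condition]; infer_instance
  exact IsIso.of_isIso_comp_left (pullback.fst T.hom ψ) T.hom

theorem hasNoSubtorus_bc_iff (U : Over (Spec (CommRingCat.of k))) [GrpObj U] :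
    Red.HasNoSubtorus K (Red.bc ψ U) ↔ Red.HasNoSubtorus k U := by
  constructor
  · intro h T _ j _ _ hT
    haveI := Groth.Abvar.isMonHom_map (f := ψ) j
    exact isTrivialGrp_of_bc ψ T (h (Red.bc ψ T) ((Over.pullback ψ).map j) (Groth.AlgGrp1.isTorus_bc ψ hT))
  · intro h T _ j _ _ hT
    let e := inv ψ
    haveI := Reductive2.MaxTorus.isMonHom_unBc ψ e (IsIso.inv_hom_id ψ) U
    haveI := Groth.Abvar.isMonHom_map (f := e) j
    haveI : Mono (Reductive2.MaxTorus.unBc ψ e (IsIso.inv_hom_id ψ) U) :=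
      @IsIso.mono_of_iso _ _ _ _ _ (Reductive2.MaxTorus.isIso_unBc ψ U)
    exact isTrivialGrp_of_bc e T (h (Red.bc e T)
      ((Over.pullback e).map j ≫ Reductive2.MaxTorus.unBc ψ e (IsIso.inv_hom_id ψ) U) (Groth.AlgGrp1.isTorus_bc e hT))

theorem connectedSpace_bc_iff (U : Over (Spec (CommRingCat.of k))) :
    ConnectedSpace ↥(Red.bc ψ U).left ↔ ConnectedSpace ↥U.left := by
  let f : (Red.bc ψ U).left ⟶ U.left := pullback.fst U.hom ψ
  have : IsIso f := inferInstanceAs (IsIso (pullback.fst U.hom ψ))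
  exact ⟨fun _ => f.surjective.connectedSpace f.continuous,
    fun _ => (inv f).surjective.connectedSpace (inv f).continuous⟩

end BaseIso

variable [IsAlgClosed k]

theorem geom_iff (U : Over (Spec (CommRingCat.of k))) [GrpObj U] :
    (∀ s : (Spec (CommRingCat.of k) : Scheme.{u}), ConnectedSpace ↥(Red.geomFibre s U).left ∧
      Red.HasNoSubtorus (AlgebraicClosure ((Spec (CommRingCat.of k)).residueField s)) (Red.geomFibre s U)) ↔
    ConnectedSpace ↥U.left ∧ Red.HasNoSubtorus k U := by
  constructor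
  · intro h
    obtain ⟨h1, h2⟩ := h (IsLocalRing.closedPoint k)
    have := Reductive2.MaxTorus.isIso_geomPt (k := k) (IsLocalRing.closedPoint k)
    exact ⟨(connectedSpace_bc_iff (K := AlgebraicClosure ((Spec (CommRingCat.of k)).residueField _)) _ U).1 h1,
      (hasNoSubtorus_bc_iff (K := AlgebraicClosure ((Spec (CommRingCat.of k)).residueField _)) _ U).1 h2⟩
  · rintro ⟨h1, h2⟩ s
    have := Reductive2.MaxTorus.isIso_geomPt (k := k) s
    exact ⟨(connectedSpace_bc_iff (K := AlgebraicClosure ((Spec (CommRingCat.of k)).residueField _)) _ U).2 h1,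
      (hasNoSubtorus_bc_iff (K := AlgebraicClosure ((Spec (CommRingCat.of k)).residueField _)) _ U).2 h2⟩

variable {G : Over (Spec (CommRingCat.of k))} [GrpObj G]

omit [IsAlgClosed k] in
/-- The trivial subgroup. -/
theorem exists_trivial_sub [LocallyOfFiniteType G.hom] :
    ∃ (E : Over (Spec (CommRingCat.of k))) (_ : GrpObj E) (j : E ⟶ G), IsMonHom j ∧ IsClosedImmersion j.left ∧
      Smooth E.hom ∧ ConnectedSpace E.left ∧ AlgGrp.IsNormalHom j ∧ IsUnip E := by
  let E := CoactBr.sp k k
  have : IsIso (CommRingCat.ofHom (algebraMap k k)) :=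
    (ConcreteCategory.isIso_iff_bijective _).2 Function.bijective_id
  have he : IsIso E.hom := inferInstanceAs (IsIso (Spec.map (CommRingCat.ofHom (algebraMap k k))))
  have : IsMonHom (1 : E ⟶ G) := Groth.AlgGrp1.isMonHom_of_points _ fun T a b => by
    simp [MonObj.comp_one]
  have hci : IsClosedImmersion (1 : E ⟶ G).left := by
    have := Groth.AlgGrp1.isSeparated_grpObj G
    have : IsClosedImmersion ((1 : E ⟶ G).left ≫ G.hom) := by rw [Over.w]; infer_instance
    exact IsClosedImmersion.of_comp (1 : E ⟶ G).left G.hom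
  exact ⟨E, inferInstance, 1, inferInstance, hci, inferInstance,
    inferInstanceAs (ConnectedSpace (PrimeSpectrum k)),
    fun T g n => ⟨1, by simp [MonObj.comp_one]⟩, isUnip_sp_self⟩

omit [IsAlgClosed k] in
/-- The largest smooth connected normal unipotent subgroup. -/
theorem exists_largest (G : Over (Spec (CommRingCat.of k))) [GrpObj G] [LocallyOfFiniteType G.hom]
    [QuasiCompact G.hom] :
    ∃ (R : Over (Spec (CommRingCat.of k))) (_ : GrpObj R) (r : R ⟶ G), IsMonHom r ∧ IsClosedImmersion r.left ∧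
      Smooth R.hom ∧ ConnectedSpace R.left ∧ AlgGrp.IsNormalHom r ∧ IsUnip R ∧
      ∀ (H : Over (Spec (CommRingCat.of k))) [GrpObj H] (j : H ⟶ G) [IsMonHom j],
        IsClosedImmersion j.left → Smooth H.hom → ConnectedSpace H.left → AlgGrp.IsNormalHom j → IsUnip H →
        ∃ f : H ⟶ R, f ≫ r = j := by
  obtain ⟨R, hR, r, h1, h2, h3, h4, h5, h6, h7, -⟩ := Groth.Agent.S8004.result k (fun E _ => IsUnip E)
    (fun N E Q _ _ _ _ _ _ _ _ _ i q _ _ _ _ hk hN hQ => IsUnip.of_extension i q hk hN hQ)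
    (fun E Q _ _ _ _ _ _ q _ _ _ hE => IsUnip.of_quotient q hE) G exists_trivial_sub
  exact ⟨R, hR, r, h1, h2, h3, h4, h5, h6, h7⟩


/-- The data of a unipotent radical over an algebraically closed field. -/
theorem isUnipotentRadical_iff [IsAffine G.left] [LocallyOfFiniteType G.hom]
    {U : Over (Spec (CommRingCat.of k))} [GrpObj U] (u : U ⟶ G) :
    Par.IsUnipotentRadical u ↔
      IsMonHom u ∧ IsClosedImmersion u.left ∧ AlgGrp.IsNormalHom u ∧ Smooth U.hom ∧ ConnectedSpace U.left ∧
      IsUnip U ∧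
      ∀ (H : Over (Spec (CommRingCat.of k))) [GrpObj H] (j : H ⟶ G) [IsMonHom j],
        IsClosedImmersion j.left → Smooth H.hom → ConnectedSpace H.left → AlgGrp.IsNormalHom j → IsUnip H →
        ∃ f : H ⟶ U, f ≫ u = j := by
  constructor
  · rintro ⟨h1, h2, h3, h4, -, h6, h7⟩
    obtain ⟨hc, hn⟩ := (geom_iff U).1 h6
    have : IsAffine U.left := isAffine_of_isAffineHom u.left
    refine ⟨h1, h2, h3, h4, hc, isUnip_of_hasNoSubtorus U hn, fun H _ j _ hj hs hHc hHn hH => ?_⟩
    have : QuasiCompact H.hom := by rw [← Over.w j]; infer_instance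
    exact h7 H j hj hHn hs inferInstance ((geom_iff H).2 ⟨hHc, hH.hasNoSubtorus⟩)
  · rintro ⟨h1, h2, h3, h4, h5, h6, h7⟩
    refine ⟨h1, h2, h3, h4, by rw [← Over.w u]; infer_instance, (geom_iff U).2 ⟨h5, h6.hasNoSubtorus⟩,
      fun H _ j _ hj hHn hs _ hg => ?_⟩
    obtain ⟨hc, hn⟩ := (geom_iff H).1 hg
    have : IsAffine H.left := isAffine_of_isAffineHom j.left
    exact h7 H j hj hs hc hHn (isUnip_of_hasNoSubtorus H hn)

/-- A closed subgroup stable under conjugation by the rational points of a smooth group is normal. -/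
theorem isNormalHom_of_points [Smooth G.hom] {U : Over (Spec (CommRingCat.of k))} [GrpObj U] (u : U ⟶ G)
    [IsClosedImmersion u.left] [Smooth U.hom]
    (h : ∀ (g : 𝟙_ (Over (Spec (CommRingCat.of k))) ⟶ G) (x : 𝟙_ (Over (Spec (CommRingCat.of k))) ⟶ U),
      ∃ x' : 𝟙_ (Over (Spec (CommRingCat.of k))) ⟶ U, g * (x ≫ u) * g⁻¹ = x' ≫ u) :
    AlgGrp.IsNormalHom u := by
  let f : G ⊗ U ⟶ G := fst G U * (snd G U ≫ u) * (fst G U)⁻¹
  have : LocallyOfFiniteType G.hom := inferInstance
  have : LocallyOfFiniteType U.hom := inferInstance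
  have : GeometricallyReduced G.hom := Groth.AlgGrp1.geometricallyReduced_of_smooth G.hom
  have : GeometricallyReduced U.hom := Groth.AlgGrp1.geometricallyReduced_of_smooth U.hom
  have : AlgebraicGeometry.IsReduced U.left := Groth.AlgGrp1.isReduced_of_smooth U.hom
  have : IsReduced (G ⊗ U).left := Groth.AlgGrp1.isReduced_tensorObj G U
  have : LocallyOfFiniteType (G ⊗ U).hom := by
    have : LocallyOfFiniteType (snd G U).left :=
      inferInstanceAs (LocallyOfFiniteType (pullback.snd G.hom U.hom))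
    rw [← Over.w (snd G U)]; infer_instance
  obtain ⟨z, hz⟩ := Groth.AlgGrp1.exists_factor_of_range_subset u f (by
    rintro _ ⟨p, rfl⟩
    have hcl : IsClosed (f.left ⁻¹' Set.range u.left) := u.left.isClosedEmbedding.isClosed_range.preimage f.left.continuous
    have := LocallyOfFiniteType.jacobsonSpace (G ⊗ U).hom
    by_contra hp
    obtain ⟨w, hw, hwc⟩ := nonempty_inter_closedPoints ⟨p, hp⟩ hcl.isOpen_compl.isLocallyClosed
    obtain ⟨σ, hσ⟩ := Groth.AlgGrp1.exists_rpt (X := G ⊗ U) hwc
    obtain ⟨x', hx'⟩ := h (σ ≫ fst G U) (σ ≫ snd G U)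
    apply hw
    have e : σ ≫ f = x' ≫ u := by
      rw [← hx']
      simp [f, MonObj.comp_mul, GrpObj.comp_inv]
    refine ⟨x'.left (IsLocalRing.closedPoint k), ?_⟩
    have e' := congrArg (fun m => m.left (IsLocalRing.closedPoint k)) e
    simp only [Over.comp_left, Scheme.Hom.comp_apply] at e'
    show u.left (x'.left (IsLocalRing.closedPoint k)) = f.left w
    rw [← hσ]
    exact e'.symm)
  refine fun T g n => ⟨lift g n ≫ z, ?_⟩
  rw [Category.assoc, hz]
  simp [f, MonObj.comp_mul, GrpObj.comp_inv]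

omit [IsAlgClosed k] in
/-- A monomorphism into a trivial group gives a trivial group. -/
theorem isTrivialGrp_of_mono {U R : Over (Spec (CommRingCat.of k))} [GrpObj U] (f : U ⟶ R) [Mono f]
    (hR : Red.IsTrivialGrp R) : Red.IsTrivialGrp U := by
  have : IsIso R.hom := hR
  have hR' : Mono (toUnit R) := ⟨fun a b _ => Over.OverMorphism.ext ((cancel_mono R.hom).1 ((Over.w a).trans (Over.w b).symm))⟩
  have : Mono (toUnit U) := by
    rw [show toUnit U = f ≫ toUnit R from toUnit_unique _ _]; exact mono_comp _ _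
  have : IsIso (toUnit U) := isIso_of_mono_of_section (toUnit U) η[U] (toUnit_unique _ _)
  have h : (toUnit U).left = U.hom := by simpa using Over.w (toUnit U)
  show IsIso U.hom
  rw [← h]
  exact inferInstanceAs (IsIso ((Over.forget _).map (toUnit U)))
where
  isIso_of_mono_of_section {C : Type (u+1)} [Category.{u} C] {A B : C} (f : A ⟶ B) [Mono f] (s : B ⟶ A)
    (h : s ≫ f = 𝟙 B) : IsIso f :=
    ⟨⟨s, (cancel_mono f).1 (by rw [Category.assoc, h, Category.comp_id, Category.id_comp]), h⟩⟩

end Groth.URad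

end
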